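import Mathlib.GroupTheory.Nilpotent
import Mathlib.GroupTheory.PGroup
import Mathlib.Algebra.BigOperators.Finprod

/-!
A sign-reversing involution on the chains of `p`-subgroups normalized by a `p`-element.
-/

set_option autoImplicit false

open scoped Classical

namespace CfsgLib.BlockChains

universe u

variable {G : Type u} [Group G] {p : ℕ}

/-- Chains of nontrivial `p`-subgroups, all normal in the largest one. -/
def Chains (p : ℕ) (G : Type u) [Group G] : Set (Finset (Subgroup G)) :=
  {s | s.Nonempty ∧ (∀ Q ∈ s, ∀ R ∈ s, Q ≤ R ∨ R ≤ Q) ∧ (∀ Q ∈ s, Q ≠ ⊥ ∧ IsPGroup p Q) ∧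
    ∃ T ∈ s, ∀ Q ∈ s, Q ≤ T ∧ T ≤ Subgroup.normalizer ((Q : Subgroup G) : Set G)}

/-- The stabilizer of a chain. -/
def chainNorm (s : Finset (Subgroup G)) : Subgroup G :=
  ⨅ Q ∈ s, Subgroup.normalizer ((Q : Subgroup G) : Set G)

theorem mem_chainNorm {s : Finset (Subgroup G)} {g : G} :
    g ∈ chainNorm s ↔ ∀ Q ∈ s, g ∈ Subgroup.normalizer ((Q : Subgroup G) : Set G) := by
  simp [chainNorm, Subgroup.mem_iInf]

theorem chain_sup_mem {s : Finset (Subgroup G)} (hs : s.Nonempty)
    (hc : ∀ Q ∈ s, ∀ R ∈ s, Q ≤ R ∨ R ≤ Q) : s.sup id ∈ s := by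
  obtain ⟨A, hA, hmax⟩ := s.exists_maximal hs
  have : s.sup id = A := le_antisymm
    (Finset.sup_le fun Q hQ => (hc Q hQ A hA).elim id fun h => hmax hQ h)
    (Finset.le_sup (f := id) hA)
  rwa [this]

/-- The part of the chain without `x`. -/
noncomputable def lower (x : G) (s : Finset (Subgroup G)) : Subgroup G :=
  (s.filter fun Q => x ∉ Q).sup id

/-- The group all members are compared with. -/
noncomputable def top' (x : G) (s : Finset (Subgroup G)) : Subgroup G :=
  s.sup id ⊔ Subgroup.zpowers x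

/-- The normal closure of `x` in `T`. -/
def closureIn (T : Subgroup G) (x : G) : Subgroup G :=
  Subgroup.closure {y | ∃ t ∈ T, t * x * t⁻¹ = y}

theorem mem_closureIn (T : Subgroup G) (x : G) : x ∈ closureIn T x :=
  Subgroup.subset_closure ⟨1, T.one_mem, by group⟩

theorem closureIn_le {T A : Subgroup G} {x : G}
    (hA : T ≤ Subgroup.normalizer (A : Set G)) (hx : x ∈ A) : closureIn T x ≤ A := by
  refine (Subgroup.closure_le _).2 ?_
  rintro _ ⟨t, ht, rfl⟩
  exact (Subgroup.mem_normalizer_iff.1 (hA ht) x).1 hx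

theorem conj_mem_sup {A B : Subgroup G} {g : G} (hA : g ∈ Subgroup.normalizer (A : Set G))
    (hB : g ∈ Subgroup.normalizer (B : Set G)) :
    g ∈ Subgroup.normalizer ((A ⊔ B : Subgroup G) : Set G) := by
  have key : ∀ h : G, h ∈ Subgroup.normalizer (A : Set G) → h ∈ Subgroup.normalizer (B : Set G) →
      ∀ y ∈ A ⊔ B, h * y * h⁻¹ ∈ A ⊔ B := by
    intro h hA hB y hy
    rw [Subgroup.sup_eq_closure] at hy
    induction hy using Subgroup.closure_induction with
    | mem z hz =>
      rcases hz with hz | hz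
      · exact Subgroup.mem_sup_left ((Subgroup.mem_normalizer_iff.1 hA z).1 hz)
      · exact Subgroup.mem_sup_right ((Subgroup.mem_normalizer_iff.1 hB z).1 hz)
    | one => simp
    | mul a b _ _ ha hb =>
      rw [show h * (a * b) * h⁻¹ = (h * a * h⁻¹) * (h * b * h⁻¹) by group]
      exact Subgroup.mul_mem _ ha hb
    | inv a _ ha =>
      rw [show h * a⁻¹ * h⁻¹ = (h * a * h⁻¹)⁻¹ by group]
      exact Subgroup.inv_mem _ ha
  rw [Subgroup.mem_normalizer_iff]
  refine fun y => ⟨fun hy => key g hA hB y hy, fun hy => ?_⟩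
  have := key g⁻¹ (Subgroup.inv_mem _ hA) (Subgroup.inv_mem _ hB) _ hy
  simpa [mul_assoc] using this

theorem closureIn_norm {T : Subgroup G} {x g : G} (hgx : g * x = x * g)
    (hgT : g ∈ Subgroup.normalizer (T : Set G)) :
    g ∈ Subgroup.normalizer ((closureIn T x : Subgroup G) : Set G) := by
  have key : ∀ h : G, h * x = x * h → h ∈ Subgroup.normalizer (T : Set G) →
      ∀ y ∈ closureIn T x, h * y * h⁻¹ ∈ closureIn T x := by
    intro h hx hT y hy
    induction hy using Subgroup.closure_induction with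
    | mem z hz =>
      obtain ⟨t, ht, rfl⟩ := hz
      refine Subgroup.subset_closure ⟨h * t * h⁻¹, (Subgroup.mem_normalizer_iff.1 hT t).1 ht, ?_⟩
      calc h * t * h⁻¹ * x * (h * t * h⁻¹)⁻¹
          = h * t * (h⁻¹ * (x * h)) * t⁻¹ * h⁻¹ := by group
        _ = _ := by rw [← hx]; group
    | one => simp
    | mul a b _ _ ha hb =>
      rw [show h * (a * b) * h⁻¹ = (h * a * h⁻¹) * (h * b * h⁻¹) by group]
      exact Subgroup.mul_mem _ ha hb
    | inv a _ ha =>
      rw [show h * a⁻¹ * h⁻¹ = (h * a * h⁻¹)⁻¹ by group]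
      exact Subgroup.inv_mem _ ha
  rw [Subgroup.mem_normalizer_iff]
  refine fun y => ⟨fun hy => key g hgx hgT y hy, fun hy => ?_⟩
  have := key g⁻¹ (Commute.inv_left hgx).eq (Subgroup.inv_mem _ hgT) _ hy
  simpa [mul_assoc] using this

theorem closureIn_norm_self (T : Subgroup G) (x : G) :
    T ≤ Subgroup.normalizer ((closureIn T x : Subgroup G) : Set G) := by
  have key : ∀ h ∈ T, ∀ y ∈ closureIn T x, h * y * h⁻¹ ∈ closureIn T x := by
    intro h hT y hy
    induction hy using Subgroup.closure_induction with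
    | mem z hz =>
      obtain ⟨t, ht, rfl⟩ := hz
      exact Subgroup.subset_closure ⟨h * t, T.mul_mem hT ht, by group⟩
    | one => simp
    | mul a b _ _ ha hb =>
      rw [show h * (a * b) * h⁻¹ = (h * a * h⁻¹) * (h * b * h⁻¹) by group]
      exact Subgroup.mul_mem _ ha hb
    | inv a _ ha =>
      rw [show h * a⁻¹ * h⁻¹ = (h * a * h⁻¹)⁻¹ by group]
      exact Subgroup.inv_mem _ ha
  intro g hg
  rw [Subgroup.mem_normalizer_iff]
  refine fun y => ⟨fun hy => key g hg y hy, fun hy => ?_⟩
  have := key g⁻¹ (T.inv_mem hg) _ hy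
  simpa [mul_assoc] using this

variable [Finite G] [Fact p.Prime]

/-- A `p`-group generated by a normal subgroup and the normal closure of `x` is generated by the
subgroup and `x`. -/
theorem eq_sup_zpowers {T L : Subgroup G} {x : G} (hT : IsPGroup p T)
    (hL : T ≤ Subgroup.normalizer (L : Set G)) (hLT : L ≤ T) (hx : x ∈ T)
    (h : T ≤ L ⊔ closureIn T x) : L ⊔ Subgroup.zpowers x = T := by
  have hU : L ⊔ Subgroup.zpowers x ≤ T := sup_le hLT (Subgroup.zpowers_le.2 hx)
  refine le_antisymm hU ?_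
  haveI : Group.IsNilpotent T := IsPGroup.isNilpotent hT
  rcases eq_top_or_exists_le_coatom ((L ⊔ Subgroup.zpowers x).subgroupOf T) with htop | ⟨W, hW, hle⟩
  · exact Subgroup.subgroupOf_eq_top.1 htop
  exfalso
  haveI : W.Normal :=
    Subgroup.NormalizerCondition.normal_of_coatom W Group.normalizerCondition_of_isNilpotent hW
  apply hW.1
  rw [eq_top_iff]
  intro t _
  have ht := h t.2
  have hWA : L ⊔ closureIn T x ≤ W.map T.subtype := by
    refine sup_le (fun y hy => ⟨⟨y, hLT hy⟩, hle (Subgroup.mem_sup_left hy), rfl⟩)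
      ((Subgroup.closure_le _).2 ?_)
    rintro _ ⟨s, hs, rfl⟩
    refine ⟨⟨s, hs⟩ * ⟨x, hx⟩ * ⟨s, hs⟩⁻¹, ‹W.Normal›.conj_mem _ (hle ?_) _, rfl⟩
    exact Subgroup.mem_sup_right (Subgroup.mem_zpowers x)
  obtain ⟨w, hw, hwt⟩ := hWA ht
  exact Subtype.ext hwt ▸ hw

/-- The group to be toggled. -/
noncomputable def pivot (x : G) (s : Finset (Subgroup G)) : Subgroup G :=
  lower x s ⊔ closureIn (top' x s) x

/-- Chains normalized by `x`. -/
structure Fixed (p : ℕ) (x : G) (s : Finset (Subgroup G)) : Prop where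
  mem : s ∈ Chains p G
  fix : x ∈ chainNorm s

/-- The toggle. -/
noncomputable def toggle (x : G) (s : Finset (Subgroup G)) : Finset (Subgroup G) :=
  if pivot x s ∈ s then s.erase (pivot x s) else insert (pivot x s) s

variable {x : G} {s : Finset (Subgroup G)}

omit [Finite G] [Fact p.Prime] in
theorem Fixed.sup_mem (h : Fixed p x s) : s.sup id ∈ s := chain_sup_mem h.mem.1 h.mem.2.1

omit [Finite G] [Fact p.Prime] in
theorem Fixed.top'_norm (h : Fixed p x s) {Q : Subgroup G} (hQ : Q ∈ s) :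
    top' x s ≤ Subgroup.normalizer (Q : Set G) := by
  obtain ⟨-, -, -, T, hT, hTQ⟩ := h.mem
  have : s.sup id = T :=
    le_antisymm (Finset.sup_le fun R hR => (hTQ R hR).1) (Finset.le_sup (f := id) hT)
  rw [top', this]
  exact sup_le (hTQ Q hQ).2 (Subgroup.zpowers_le.2 (mem_chainNorm.1 h.fix Q hQ))

theorem Fixed.top'_pgroup (h : Fixed p x s) (hx : IsPGroup p (Subgroup.zpowers x)) :
    IsPGroup p (top' x s) := by
  rw [top', sup_comm]
  exact IsPGroup.to_sup_of_normal_right' hx (h.mem.2.2.1 _ h.sup_mem).2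
    (Subgroup.zpowers_le.2 (mem_chainNorm.1 h.fix _ h.sup_mem))

omit [Finite G] [Fact p.Prime] in
theorem Fixed.le_top' (_h : Fixed p x s) {Q : Subgroup G} (hQ : Q ∈ s) : Q ≤ top' x s :=
  le_sup_of_le_left (Finset.le_sup (f := id) hQ)

omit [Finite G] [Fact p.Prime] in
theorem Fixed.lower_cases (h : Fixed p x s) :
    ((s.filter fun Q => x ∉ Q) = ∅ ∧ lower x s = ⊥) ∨ (lower x s ∈ s ∧ x ∉ lower x s) := by
  rcases (s.filter fun Q => x ∉ Q).eq_empty_or_nonempty with h0 | hne
  · exact Or.inl ⟨h0, by rw [lower, h0, Finset.sup_empty]⟩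
  · have hm := chain_sup_mem hne fun Q hQ R hR =>
      h.mem.2.1 Q (Finset.mem_filter.1 hQ).1 R (Finset.mem_filter.1 hR).1
    exact Or.inr ⟨(Finset.mem_filter.1 hm).1, (Finset.mem_filter.1 hm).2⟩

omit [Finite G] [Fact p.Prime] in
theorem Fixed.lower_norm (h : Fixed p x s) :
    top' x s ≤ Subgroup.normalizer ((lower x s : Subgroup G) : Set G) := by
  rcases h.lower_cases with ⟨-, h0⟩ | ⟨hm, -⟩
  · rw [h0]
    intro g _
    rw [Subgroup.mem_normalizer_iff]
    intro y
    simp
  · exact h.top'_norm hm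

omit [Finite G] [Fact p.Prime] in
theorem Fixed.pivot_le (h : Fixed p x s) : pivot x s ≤ top' x s := by
  refine sup_le ?_ (closureIn_le Subgroup.le_normalizer
    (Subgroup.mem_sup_right (Subgroup.mem_zpowers x)))
  rcases h.lower_cases with ⟨-, h0⟩ | ⟨hm, -⟩
  · rw [h0]; exact bot_le
  · exact h.le_top' hm

omit [Finite G] [Fact p.Prime] in
theorem Fixed.pivot_norm (h : Fixed p x s) :
    top' x s ≤ Subgroup.normalizer ((pivot x s : Subgroup G) : Set G) :=
  fun _ hg => conj_mem_sup (h.lower_norm hg) (closureIn_norm_self _ x hg)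

omit [Finite G] [Fact p.Prime] in
theorem mem_pivot : x ∈ pivot x s := Subgroup.mem_sup_right (mem_closureIn _ x)

omit [Finite G] [Fact p.Prime] in
theorem Fixed.compare (h : Fixed p x s) {Q : Subgroup G} (hQ : Q ∈ s) :
    (x ∉ Q ∧ Q ≤ pivot x s) ∨ (x ∈ Q ∧ pivot x s ≤ Q) := by
  by_cases hxQ : x ∈ Q
  · refine Or.inr ⟨hxQ, sup_le ?_ (closureIn_le (h.top'_norm hQ) hxQ)⟩
    rcases h.lower_cases with ⟨-, h0⟩ | ⟨hm, hxm⟩
    · rw [h0]; exact bot_le
    · exact (h.mem.2.1 _ hm Q hQ).resolve_right fun hle => hxm (hle hxQ)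
  · exact Or.inl ⟨hxQ, le_sup_of_le_left
      (Finset.le_sup (f := id) (Finset.mem_filter.2 ⟨hQ, hxQ⟩))⟩

omit [Finite G] [Fact p.Prime] in
theorem mem_toggle {Q : Subgroup G} (hQ : Q ∈ toggle x s) : Q ∈ s ∨ Q = pivot x s := by
  unfold toggle at hQ
  split_ifs at hQ
  · exact Or.inl (Finset.mem_of_mem_erase hQ)
  · exact (Finset.mem_insert.1 hQ).symm

omit [Finite G] [Fact p.Prime] in
theorem lower_toggle : lower x (toggle x s) = lower x s := by
  unfold lower toggle
  congr 1
  split_ifs with hR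
  · rw [Finset.filter_erase]
    exact Finset.erase_eq_of_notMem fun h => (Finset.mem_filter.1 h).2 mem_pivot
  · rw [Finset.filter_insert, if_neg (not_not.2 mem_pivot)]

theorem top'_toggle (hx : IsPGroup p (Subgroup.zpowers x)) (h : Fixed p x s) :
    top' x (toggle x s) = top' x s := by
  refine le_antisymm (sup_le (Finset.sup_le fun Q hQ => ?_) le_sup_right) ?_
  · rcases mem_toggle hQ with hQ | rfl
    · exact h.le_top' hQ
    · exact h.pivot_le
  refine sup_le ?_ le_sup_right
  by_cases hmem : s.sup id ∈ toggle x s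
  · exact le_sup_of_le_left (Finset.le_sup (f := id) hmem)
  unfold toggle at hmem
  by_cases hR : pivot x s ∈ s
  · rw [if_pos hR, Finset.mem_erase, not_and_or, not_not] at hmem
    have hT : s.sup id = pivot x s := hmem.resolve_right (not_not_intro h.sup_mem)
    have hTT : top' x s = pivot x s := by
      rw [top', hT]
      exact sup_eq_left.2 (Subgroup.zpowers_le.2 mem_pivot)
    have hlow : lower x s ≤ top' x s := le_sup_left.trans h.pivot_le
    have h2 := eq_sup_zpowers (h.top'_pgroup hx) h.lower_norm hlow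
      (Subgroup.mem_sup_right (Subgroup.mem_zpowers x)) (le_of_eq hTT)
    refine (le_sup_left.trans (le_of_eq h2.symm) : s.sup id ≤ _).trans (sup_le ?_ le_sup_right)
    refine le_sup_of_le_left ?_
    rw [← lower_toggle]
    exact Finset.sup_mono (Finset.filter_subset _ _)
  · rw [if_neg hR] at hmem
    exact absurd (Finset.mem_insert_of_mem h.sup_mem) hmem

theorem pivot_toggle (hx : IsPGroup p (Subgroup.zpowers x)) (h : Fixed p x s) :
    pivot x (toggle x s) = pivot x s := by
  unfold pivot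
  rw [top'_toggle hx h, lower_toggle]

theorem toggle_toggle (hx : IsPGroup p (Subgroup.zpowers x)) (h : Fixed p x s) :
    toggle x (toggle x s) = s := by
  conv_lhs => rw [toggle, pivot_toggle hx h]
  unfold toggle
  split_ifs with h1 h2 h2 <;> simp_all [Finset.insert_erase]

theorem fixed_toggle (hx1 : x ≠ 1) (hx : IsPGroup p (Subgroup.zpowers x)) (h : Fixed p x s)
    (hne : s ≠ {Subgroup.zpowers x}) :
    Fixed p x (toggle x s) ∧ toggle x s ≠ {Subgroup.zpowers x} := by
  have hnempty : (toggle x s).Nonempty := by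
    unfold toggle
    split_ifs with hR
    · by_contra h0
      rw [Finset.not_nonempty_iff_eq_empty] at h0
      have hs : s = {pivot x s} := by
        generalize pivot x s = R at hR h0 ⊢
        rw [← Finset.insert_erase hR, h0]
        rfl
      have hlow : lower x s = ⊥ := by
        rcases h.lower_cases with ⟨-, h1⟩ | ⟨hm, hxm⟩
        · exact h1
        · have hm' : lower x s = pivot x s := by
            generalize pivot x s = R, lower x s = L at hs hm ⊢
            rw [hs] at hm
            exact Finset.mem_singleton.1 hm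
          rw [hm'] at hxm
          exact absurd mem_pivot hxm
      have hsup : s.sup id = pivot x s := by
        conv_lhs => rw [hs]
        simp
      have hTT : top' x s = pivot x s := by
        rw [top', hsup]
        exact sup_eq_left.2 (Subgroup.zpowers_le.2 mem_pivot)
      have h2 := eq_sup_zpowers (h.top'_pgroup hx) h.lower_norm (hlow ▸ bot_le)
        (Subgroup.mem_sup_right (Subgroup.mem_zpowers x)) (le_of_eq hTT)
      rw [hlow, bot_sup_eq, hTT] at h2
      exact hne (by rw [hs, h2])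
    · exact Finset.insert_nonempty _ _
  have hchain : ∀ Q ∈ toggle x s, ∀ R ∈ toggle x s, Q ≤ R ∨ R ≤ Q := by
    intro Q hQ R hR
    rcases mem_toggle hQ with hQ | rfl <;> rcases mem_toggle hR with hR | rfl
    · exact h.mem.2.1 Q hQ R hR
    · exact (h.compare hQ).imp And.right And.right
    · exact (h.compare hR).symm.imp And.right And.right
    · exact Or.inl le_rfl
  have hnorm : ∀ Q ∈ toggle x s, top' x s ≤ Subgroup.normalizer (Q : Set G) := by
    intro Q hQ
    rcases mem_toggle hQ with hQ | rfl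
    · exact h.top'_norm hQ
    · exact h.pivot_norm
  have hle : ∀ Q ∈ toggle x s, Q ≤ top' x s := by
    intro Q hQ
    rcases mem_toggle hQ with hQ | rfl
    · exact h.le_top' hQ
    · exact h.pivot_le
  refine ⟨⟨⟨hnempty, hchain, fun Q hQ => ?_, (toggle x s).sup id,
    chain_sup_mem hnempty hchain, fun Q hQ => ⟨Finset.le_sup (f := id) hQ,
      (Finset.sup_le hle).trans (hnorm Q hQ)⟩⟩, mem_chainNorm.2 fun Q hQ =>
        hnorm Q hQ (Subgroup.mem_sup_right (Subgroup.mem_zpowers x))⟩, fun heq => ?_⟩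
  · rcases mem_toggle hQ with hQ | rfl
    · exact h.mem.2.2.1 Q hQ
    · refine ⟨fun h0 => hx1 ?_, (h.top'_pgroup hx).to_le h.pivot_le⟩
      exact Subgroup.mem_bot.1 (h0 ▸ mem_pivot)
  · have h1 := toggle_toggle hx h
    rw [heq] at h1
    have hp : pivot x ({Subgroup.zpowers x} : Finset (Subgroup G)) = Subgroup.zpowers x := by
      unfold pivot lower top'
      rw [Finset.filter_singleton, if_neg (not_not.2 (Subgroup.mem_zpowers x)), Finset.sup_empty,
        bot_sup_eq, Finset.sup_singleton, id, sup_idem]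
      exact le_antisymm (closureIn_le Subgroup.le_normalizer (Subgroup.mem_zpowers x))
        (Subgroup.zpowers_le.2 (mem_closureIn _ x))
    rw [toggle, hp, if_pos (Finset.mem_singleton_self _), Finset.erase_singleton] at h1
    exact Finset.not_nonempty_empty (h1 ▸ h.mem.1)

omit [Finite G] [Fact p.Prime] in
theorem card_toggle (hs : s.Nonempty) (ht : (toggle x s).Nonempty) :
    (-1 : ℤ) ^ ((toggle x s).card - 1) = -(-1 : ℤ) ^ (s.card - 1) := by
  have h1 := hs.card_pos
  have h2 := ht.card_pos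
  unfold toggle at h2 ⊢
  split_ifs at h2 ⊢ with hR
  · rw [Finset.card_erase_of_mem hR] at h2 ⊢
    obtain ⟨k, hk⟩ : ∃ k, s.card = k + 2 := ⟨s.card - 2, by omega⟩
    rw [hk, show k + 2 - 1 - 1 = k by omega, show k + 2 - 1 = k + 1 by omega, pow_succ]
    ring
  · rw [Finset.card_insert_of_notMem hR]
    obtain ⟨k, hk⟩ : ∃ k, s.card = k + 1 := ⟨s.card - 1, by omega⟩
    rw [hk, show k + 1 + 1 - 1 = k + 1 by omega, show k + 1 - 1 = k by omega, pow_succ]
    ring

theorem chainNorm_inter_le (g : G) (hg : g * x = x * g) (h : Fixed p x s)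
    (hgs : g ∈ chainNorm s) : g ∈ chainNorm (toggle x s) := by
  refine mem_chainNorm.2 fun Q hQ => ?_
  rcases mem_toggle hQ with hQ | rfl
  · exact mem_chainNorm.1 hgs Q hQ
  have hlow : g ∈ Subgroup.normalizer ((lower x s : Subgroup G) : Set G) := by
    rcases h.lower_cases with ⟨-, h0⟩ | ⟨hm, -⟩
    · rw [h0, Subgroup.mem_normalizer_iff]
      intro y
      simp
    · exact mem_chainNorm.1 hgs _ hm
  have hxn : g ∈ Subgroup.normalizer ((Subgroup.zpowers x : Subgroup G) : Set G) := by
    refine Subgroup.centralizer_le_normalizer _ ?_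
    rw [Subgroup.zpowers_eq_closure, Subgroup.centralizer_closure,
      Subgroup.mem_centralizer_singleton_iff]
    exact hg
  exact conj_mem_sup hlow (closureIn_norm hg
    (conj_mem_sup (mem_chainNorm.1 hgs _ h.sup_mem) hxn))

/-- **The cancellation.** -/
theorem sum_chains (hx1 : x ≠ 1) (hx : IsPGroup p (Subgroup.zpowers x)) (f : Subgroup G → ℤ) :
    ∑ᶠ s ∈ {s | Fixed p x s}, (-1 : ℤ) ^ (s.card - 1) *
      f (Subgroup.centralizer ({x} : Set G) ⊓ chainNorm s) =
      f (Subgroup.centralizer ({x} : Set G)) := by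
  haveI : Finite (Finset (Subgroup G)) :=
    Finite.of_injective (fun s : Finset (Subgroup G) => (s : Set (Subgroup G))) Finset.coe_injective
  haveI := Fintype.ofFinite (Finset (Subgroup G))
  set s₀ : Finset (Subgroup G) := {Subgroup.zpowers x}
  have hs₀ : Fixed p x s₀ := by
    refine ⟨⟨Finset.singleton_nonempty _, ?_, ?_, Subgroup.zpowers x,
      Finset.mem_singleton_self _, ?_⟩, mem_chainNorm.2 ?_⟩
    · intro Q hQ R hR
      rw [Finset.mem_singleton.1 hQ, Finset.mem_singleton.1 hR]; exact Or.inl le_rfl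
    · intro Q hQ
      rw [Finset.mem_singleton.1 hQ]
      exact ⟨by simpa [Subgroup.zpowers_eq_bot] using hx1, hx⟩
    · intro Q hQ
      rw [Finset.mem_singleton.1 hQ]
      exact ⟨le_rfl, Subgroup.le_normalizer⟩
    · intro Q hQ
      rw [Finset.mem_singleton.1 hQ]
      exact Subgroup.le_normalizer (Subgroup.mem_zpowers x)
  have hmem₀ : s₀ ∈ ({s | Fixed p x s} : Set (Finset (Subgroup G))).toFinset := by
    rw [Set.mem_toFinset]; exact hs₀
  rw [finsum_mem_eq_toFinset_sum, ← Finset.add_sum_erase _ _ hmem₀]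
  have h0 : Subgroup.centralizer ({x} : Set G) ⊓ chainNorm s₀ =
      Subgroup.centralizer ({x} : Set G) := by
    refine inf_eq_left.2 fun g hg => mem_chainNorm.2 fun Q hQ => ?_
    rw [Finset.mem_singleton.1 hQ]
    refine Subgroup.centralizer_le_normalizer _ ?_
    rwa [Subgroup.zpowers_eq_closure, Subgroup.centralizer_closure]
  rw [h0, show s₀.card - 1 = 0 from rfl, pow_zero, one_mul]
  refine add_eq_left.2 (Finset.sum_involution (fun s _ => toggle x s) ?_ ?_ ?_ ?_)
  · intro s hs
    rw [Finset.mem_erase, Set.mem_toFinset] at hs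
    obtain ⟨hf, -⟩ := fixed_toggle hx1 hx hs.2 hs.1
    have heq : Subgroup.centralizer ({x} : Set G) ⊓ chainNorm (toggle x s) =
        Subgroup.centralizer ({x} : Set G) ⊓ chainNorm s := by
      ext g
      refine ⟨fun hg => ⟨hg.1, ?_⟩, fun hg => ⟨hg.1,
        chainNorm_inter_le g (Subgroup.mem_centralizer_singleton_iff.1 hg.1) hs.2 hg.2⟩⟩
      have := chainNorm_inter_le g (Subgroup.mem_centralizer_singleton_iff.1 hg.1) hf hg.2
      rwa [toggle_toggle hx hs.2] at this
    rw [heq, card_toggle hs.2.mem.1 hf.mem.1]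
    ring
  · intro s hs _ heq
    have : toggle x s ≠ s := by
      unfold toggle
      split_ifs with hR
      · exact Finset.erase_ne_self.2 hR
      · exact Finset.insert_ne_self.2 hR
    exact this heq
  · intro s hs
    rw [Finset.mem_erase, Set.mem_toFinset] at hs ⊢
    obtain ⟨hf, hne⟩ := fixed_toggle hx1 hx hs.2 hs.1
    exact ⟨hne, hf⟩
  · intro s hs
    rw [Finset.mem_erase, Set.mem_toFinset] at hs
    exact toggle_toggle hx hs.2

end CfsgLib.BlockChains
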