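import Cfsg.Agent.Lib.BlockRank.NilpotentAbelian
import Cfsg.Agent.Lib.BlockChains.Toggle
import Cfsg.Agent.Lib.Blocks.Induced
import Cfsg.Agent.Lib.Blocks.EquivDefect

/-!
`k - l` of a union of blocks of a local subgroup as a sum over the nontrivial `p`-elements.
-/

set_option autoImplicit false
set_option maxHeartbeats 1000000
set_option synthInstance.maxHeartbeats 400000

open Cfsg CfsgLib.Blocks CfsgLib.Blocks.Pairs
open scoped Classical
open scoped ComplexConjugate

namespace CfsgLib.BlockChains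

universe u

variable {G : Type u} [Group G] [Finite G] {p : ℕ} [Fact p.Prime] {M : Ideal AlgInt}

/-- The nontrivial `p`-elements. -/
noncomputable def pEls (p : ℕ) (G : Type u) [Group G] [Finite G] : Finset G :=
  haveI := Fintype.ofFinite G
  Finset.univ.filter fun x => (∃ k : ℕ, orderOf x = p ^ k) ∧ x ≠ 1

omit [Fact p.Prime] in
theorem mem_pEls {x : G} : x ∈ pEls p G ↔ (∃ k : ℕ, orderOf x = p ^ k) ∧ x ≠ 1 := by
  simp [pEls]

/-- The sum over the singular elements by `p`-parts. -/
theorem sum_singular [Fintype G] (f : G → ℂ) :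
    ∑ g ∈ Finset.univ.filter (fun g : G => ¬ Cfsg.IsPRegular p g), f g =
      ∑ x ∈ pEls p G, CfsgLib.BlockRank.sectionSum p f x := by
  have hp : p.Prime := Fact.out
  choose π hπ using fun g : G => CfsgLib.Blocks.exists_isPPart hp g
  have hπp : ∀ g, ∃ k : ℕ, orderOf (π g) = p ^ k := fun g => by
    obtain ⟨y, -, -, hk, -⟩ := hπ g
    exact hk
  rw [← Finset.sum_fiberwise_of_maps_to (t := pEls p G) (g := π) fun g hg => by
    refine mem_pEls.2 ⟨hπp g, fun h1 => (Finset.mem_filter.1 hg).2 ?_⟩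
    obtain ⟨z, hz1, -, -, hz3⟩ := hπ g
    rw [h1, one_mul] at hz1
    exact hz1 ▸ hz3]
  refine Finset.sum_congr rfl fun x hx => ?_
  obtain ⟨⟨k, hk⟩, hx1⟩ := mem_pEls.1 hx
  rw [CfsgLib.BlockRank.sectionSum]
  symm
  refine Finset.sum_bij (fun z _ => x * z) (fun z hz => ?_) (fun a _ b _ h => mul_left_cancel h)
    (fun g hg => ?_) fun z _ => rfl
  · simp only [Finset.mem_filter, Finset.mem_univ, true_and] at hz ⊢
    have h1 := CfsgLib.Blocks.isPPart_of_commute hz.1 hk hz.2
    have h2 := CfsgLib.Blocks.IsPPart.unique hp (hπ (x * z)) h1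
    refine ⟨fun hreg => hx1 ?_, h2⟩
    have h3 : Cfsg.IsPPart p (x * z) (1 : G) := by
      have := CfsgLib.Blocks.isPPart_of_commute (Commute.one_left (x * z)) (k := 0)
        (by simp) hreg
      rwa [one_mul] at this
    exact CfsgLib.Blocks.IsPPart.unique hp h1 h3
  · simp only [Finset.mem_filter, Finset.mem_univ, true_and] at hg
    obtain ⟨z, hz1, hz2, -, hz3⟩ := hπ g
    rw [hg.2] at hz1 hz2
    exact ⟨z, Finset.mem_filter.mpr ⟨Finset.mem_univ _, hz2, hz3⟩, hz1⟩

omit [Fact p.Prime] in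
/-- `k - l` of a closed set is the sum over the singular elements. -/
theorem card_sub_rank [Fintype G] {U : Set (IrrCharacter G)} [Fintype U]
    (hU : CfsgLib.BlockRank.RegClosed p U) :
    (Nat.card G : ℂ) * ((Nat.card U : ℂ) - (Cfsg.blockRank p U : ℂ)) =
      ∑ g ∈ Finset.univ.filter (fun g : G => ¬ Cfsg.IsPRegular p g),
        ∑ χ ∈ U.toFinset, (χ : G → ℂ) g * conj ((χ : G → ℂ) g) := by
  have h := CfsgLib.BlockRank.cast_blockRank_eq U hU
  rw [← Finset.sum_subtype U.toFinset (fun y => Set.mem_toFinset) (fun φ : IrrCharacter G =>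
    Cfsg.classInner (Cfsg.pRegularPart p (φ : G → ℂ)) (φ : G → ℂ))] at h
  rw [h, Nat.card_eq_fintype_card (α := U), ← Set.toFinset_card, Finset.card_eq_sum_ones,
    Nat.cast_sum, Nat.cast_one, ← Finset.sum_sub_distrib, Finset.mul_sum, Finset.sum_comm]
  refine Finset.sum_congr rfl fun χ _ => ?_
  have hone := CfsgLib.Char.classInner_irr_self χ.2
  rw [← hone, Cfsg.classInner, Cfsg.classInner, ← mul_sub, ← mul_assoc,
    mul_inv_cancel₀ (Nat.cast_ne_zero.mpr Nat.card_pos.ne'), one_mul, ← Finset.sum_sub_distrib,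
    Finset.sum_filter]
  refine Finset.sum_congr rfl fun g _ => ?_
  rw [CfsgLib.BlockRank.pRegularPart_apply]
  split_ifs <;> simp_all

omit [Finite G] in
theorem isInducedBlock_stage [Finite G] [M.IsMaximal] (N : Subgroup G)
    {L : Subgroup G} {L' : Subgroup N} (φ : L' ≃* L) (hφ : ∀ k, ((φ k : L) : G) = ((k : N) : G))
    {b : Set (IrrCharacter L)} (hb : IsPBlock M b) {β : Set (IrrCharacter N)}
    {B : Set (IrrCharacter G)}
    (h1 : IsInducedBlock M L' (pullSet φ b) β) (h2 : IsInducedBlock M N β B) :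
    IsInducedBlock M L b B := by
  obtain ⟨ξ, hξ⟩ := IsPBlock.nonempty hb
  obtain ⟨χ, hχ⟩ := IsPBlock.nonempty h2.2.1
  obtain ⟨ψ, hψ⟩ := IsPBlock.nonempty h2.1
  rw [IsPBlock.eq_blockOf hb hξ, IsPBlock.eq_blockOf h2.2.1 hχ]
  refine isInducedBlock_of_lam_resCenter_eq ξ χ fun a => ?_
  rw [← IsInducedBlock.lam_resCenter_eq h2 hψ hχ,
    ← IsInducedBlock.lam_resCenter_eq h1 ⟨ξ, hξ, rfl⟩ hψ, lam_resCenter_trans N φ hφ]

/-- The characters of `H` in blocks inducing `b`. -/
def blocksOver (M : Ideal AlgInt) (H : Subgroup G) (b : Set (IrrCharacter G)) :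
    Set (IrrCharacter H) :=
  {ψ | ∃ β : Set (IrrCharacter H), ψ ∈ β ∧ IsInducedBlock M H β b}

/-- `|K|` times the total rank of the blocks of `K` inducing `b`. -/
noncomputable def weight (p : ℕ) (M : Ideal AlgInt) (b : Set (IrrCharacter G)) (K : Subgroup G) : ℤ :=
  (Nat.card K : ℤ) * ((∑ᶠ β ∈ {β : Set (IrrCharacter K) | IsInducedBlock M K β b},
    Cfsg.blockRank p β : ℕ) : ℤ)

theorem regClosed_blocksOver (hM : IsPModular p M) (H : Subgroup G) [Fintype H]
    (b : Set (IrrCharacter G)) : CfsgLib.BlockRank.RegClosed p (blocksOver M H b) := by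
  rintro θ ⟨β, hθ, hβ⟩ φ hφ
  exact CfsgLib.BlockRank.regClosed_of_isPBlock hM hβ.1 θ hθ φ fun h => hφ ⟨β, h, hβ⟩

/-- The count for the whole group. -/
theorem count_top (hM : IsPModular p M) {b : Set (IrrCharacter G)} (hb : IsPBlock M b) :
    (Nat.card G : ℤ) * ((Nat.card b : ℤ) - (Cfsg.blockRank p b : ℤ)) =
      ∑ x ∈ pEls p G, weight p M b (Subgroup.centralizer ({x} : Set G)) := by
  haveI := Fintype.ofFinite G
  haveI := Fintype.ofFinite b
  apply Int.cast_injective (α := ℂ)
  push_cast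
  rw [card_sub_rank (CfsgLib.BlockRank.regClosed_of_isPBlock hM hb), sum_singular]
  refine Finset.sum_congr rfl fun x hx => ?_
  haveI := Fintype.ofFinite (Subgroup.centralizer ({x} : Set G))
  rw [CfsgLib.BlockRank.sectionSum_eq_sum_regSet _ rfl, Finset.sum_comm,
    CfsgLib.BlockRank.sum_section_eq hM rfl (mem_pEls.1 hx).1 hb]
  rw [weight, Int.cast_mul, Int.cast_natCast, Int.cast_natCast]

/-- The count for a local subgroup. -/
theorem count_local (hM : IsPModular p M) {b : Set (IrrCharacter G)}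
    {H P : Subgroup G} (hP : IsPGroup p P) (hPH : P ≤ H)
    (hCH : Subgroup.centralizer (P : Set G) ≤ H) (hN : H ≤ Subgroup.normalizer (P : Set G)) :
    (Nat.card H : ℤ) * ((Nat.card (blocksOver M H b) : ℤ) -
        (Cfsg.blockRank p (blocksOver M H b) : ℤ)) =
      ∑ x ∈ (pEls p G).filter (· ∈ H),
        weight p M b (Subgroup.centralizer ({x} : Set G) ⊓ H) := by
  haveI := isMaximal_of_isPModular hM
  haveI := Fintype.ofFinite G
  haveI := Fintype.ofFinite H
  haveI := Fintype.ofFinite (blocksOver M H b)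
  apply Int.cast_injective (α := ℂ)
  push_cast
  rw [card_sub_rank (regClosed_blocksOver hM H b), sum_singular]
  refine Finset.sum_bij (fun x _ => (x : G)) (fun x hx => ?_) (fun a _ b _ h => Subtype.ext h)
    (fun y hy => ?_) fun x hx => ?_
  · rw [mem_pEls] at hx
    refine Finset.mem_filter.2 ⟨mem_pEls.2 ⟨?_, fun h => hx.2 (Subtype.ext h)⟩, x.2⟩
    simpa [Subgroup.orderOf_coe] using hx.1
  · obtain ⟨hy, hyH⟩ := Finset.mem_filter.1 hy
    rw [mem_pEls] at hy
    exact ⟨⟨y, hyH⟩, mem_pEls.2 ⟨by simpa [Subgroup.orderOf_mk] using hy.1,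
      fun h => hy.2 (congrArg Subtype.val h)⟩, rfl⟩
  · have hxp := (mem_pEls.1 hx).1
    set K := Subgroup.centralizer ({(x : G)} : Set G) ⊓ H with hK
    set C' := Subgroup.centralizer ({x} : Set H) with hC'
    haveI := Fintype.ofFinite C'
    let φ : C' ≃* K :=
      { toFun := fun c => ⟨((c : H) : G), ⟨Subgroup.mem_centralizer_singleton_iff.2
            (congrArg Subtype.val (Subgroup.mem_centralizer_singleton_iff.1 c.2)), (c : H).2⟩⟩
        invFun := fun k => ⟨⟨(k : G), k.2.2⟩, Subgroup.mem_centralizer_singleton_iff.2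
            (Subtype.ext (Subgroup.mem_centralizer_singleton_iff.1 k.2.1))⟩
        left_inv := fun c => rfl
        right_inv := fun k => rfl
        map_mul' := fun a c => rfl }
    have hφ : ∀ k, ((φ k : K) : G) = ((k : H) : G) := fun k => rfl
    set 𝔅 : Finset (Set (IrrCharacter H)) :=
      ({c | IsInducedBlock M H c b} : Set (Set (IrrCharacter H))).toFinset
    have hU : (blocksOver M H b).toFinset = 𝔅.biUnion fun c => c.toFinset := by
      ext ψ
      rw [Set.mem_toFinset, Finset.mem_biUnion]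
      simp only [blocksOver, 𝔅, Set.mem_toFinset, Set.mem_setOf_eq]
      exact ⟨fun ⟨β, h1, h2⟩ => ⟨β, h2, h1⟩, fun ⟨β, h2, h1⟩ => ⟨β, h1, h2⟩⟩
    have hdisj : (𝔅 : Set (Set (IrrCharacter H))).PairwiseDisjoint fun c => c.toFinset := by
      intro c hc d hd hne
      rw [Function.onFun, Finset.disjoint_left]
      intro ψ h1 h2
      simp only [𝔅, Set.coe_toFinset] at hc hd
      exact hne (CfsgLib.Blocks.IsPBlock.eq_of_mem hc.1 hd.1 (Set.mem_toFinset.1 h1)
        (Set.mem_toFinset.1 h2))
    rw [CfsgLib.BlockRank.sectionSum_eq_sum_regSet _ rfl, Finset.sum_comm, hU,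
      Finset.sum_biUnion hdisj]
    rw [Finset.sum_congr rfl fun c hc => CfsgLib.BlockRank.sum_section_eq hM rfl hxp
      (Set.mem_toFinset.1 hc).1]
    rw [← Finset.mul_sum, ← Nat.cast_sum, weight, Int.cast_mul, Int.cast_natCast,
      Int.cast_natCast, Nat.card_congr φ.toEquiv]
    congr 2
    rw [Finset.sum_congr rfl fun c _ => finsum_mem_eq_toFinset_sum _ _,
      finsum_mem_eq_toFinset_sum]
    have hset : (𝔅.biUnion fun c => ({e : Set (IrrCharacter C') | IsInducedBlock M C' e c} :
          Set (Set (IrrCharacter C'))).toFinset) =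
        ({β : Set (IrrCharacter K) | IsInducedBlock M K β b} :
          Set (Set (IrrCharacter K))).toFinset.image (pullSet φ) := by
      ext e
      simp only [Finset.mem_biUnion, Finset.mem_image, Set.mem_toFinset, Set.mem_setOf_eq, 𝔅]
      constructor
      · rintro ⟨c, hcb, he⟩
        have hback : pullSet φ (pullSet φ.symm e) = e := by
          rw [pullSet, pullSet, Set.image_image]
          simp [pull_pull_symm]
        refine ⟨pullSet φ.symm e, ?_, hback⟩
        exact isInducedBlock_stage H φ hφ (isPBlock_pullSet φ.symm he.1)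
          (by rw [hback]; exact he) hcb
      · rintro ⟨β, hβ, rfl⟩
        obtain ⟨c, hc⟩ := CfsgLib.BlockRank.exists_isInducedBlock_centralizer hM
          (C := C') rfl hxp (isPBlock_pullSet φ hβ.1)
        exact ⟨c, isInducedBlock_trans H φ hφ hc hβ, hc⟩
    rw [← Finset.sum_biUnion, hset, Finset.sum_image fun β _ β' _ (h : pullSet φ β = pullSet φ β') =>
      (Set.image_injective.2 (pull_injective φ) h : β = β')]
    · exact Finset.sum_congr rfl fun β _ => CfsgLib.BlockRank.blockRank_pullSet φ β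
    · intro c _ d _ hne
      rw [Function.onFun, Finset.disjoint_left]
      intro e h1 h2
      rw [Set.mem_toFinset] at h1 h2
      have h1' : IsInducedBlock M C' e c := h1
      have h2' : IsInducedBlock M C' e d := h2
      exact hne (IsInducedBlock.unique h1' h2')

end CfsgLib.BlockChains
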